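import Mathlib.RingTheory.RingHom.Flat
import Mathlib.RingTheory.RingHom.FaithfullyFlat
import Mathlib.AlgebraicGeometry.Morphisms.Flat

set_option autoImplicit false

open TensorProduct AlgebraicGeometry CategoryTheory

universe u

namespace Groth.Agent.H12

theorem flat_of_faithfullyFlat_tower (A B C : Type u) [CommRing A] [CommRing B] [CommRing C]
    [Algebra A B] [Algebra B C] [Algebra A C] [IsScalarTower A B C]
    [Module.FaithfullyFlat B C] [Module.Flat A C] : Module.Flat A B := by
  rw [Module.Flat.iff_lTensor_preserves_injective_linearMap]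
  intro N P _ _ _ _ f hf
  let g := AlgebraTensorModule.lTensor B B f
  change Function.Injective g
  rw [← Module.FaithfullyFlat.lTensor_injective_iff_injective B C g]
  have h : LinearMap.lTensor C g =
      ((AlgebraTensorModule.cancelBaseChange A B B C P).symm.toLinearMap ∘ₗ
        AlgebraTensorModule.lTensor B C f) ∘ₗ
        (AlgebraTensorModule.cancelBaseChange A B B C N).toLinearMap := by
    ext c n
    simp [g]
  rw [h]
  have : Function.Injective (AlgebraTensorModule.lTensor B C f) :=
    Module.Flat.lTensor_preserves_injective_linearMap (M := C) f hf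
  simpa using this

theorem ringHomFlat_of_comp {A B C : Type u} [CommRing A] [CommRing B] [CommRing C]
    (f : A →+* B) (g : B →+* C) (hg : g.FaithfullyFlat) (hgf : (g.comp f).Flat) : f.Flat := by
  algebraize [f, g, g.comp f]
  exact flat_of_faithfullyFlat_tower A B C

theorem faithfullyFlat_stalkMap {X Y : Scheme.{u}} (f : X ⟶ Y) (x : X)
    (hf : (f.stalkMap x).hom.Flat) : (f.stalkMap x).hom.FaithfullyFlat := by
  algebraize [(f.stalkMap x).hom]
  exact @Module.FaithfullyFlat.of_flat_of_isLocalHom _ _ _ _ _ _ _ hf (f.toLRSHom.prop x)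

theorem flat_stalkMap_of_comp {X Y Z : Scheme.{u}} (f : X ⟶ Y) (g : Y ⟶ Z) (x : X)
    (hf : (f.stalkMap x).hom.Flat) (hfg : ((f ≫ g).stalkMap x).hom.Flat) :
    (g.stalkMap (f x)).hom.Flat := by
  apply ringHomFlat_of_comp _ _ (faithfullyFlat_stalkMap f x hf)
  rw [Scheme.Hom.stalkMap_comp] at hfg
  exact hfg

theorem flat_of_comp_of_surjective {X Y Z : Scheme.{u}} (f : X ⟶ Y) (g : Y ⟶ Z)
    [Flat f] [Surjective f] [Flat (f ≫ g)] : Flat g := by
  refine Flat.of_stalkMap _ fun y => ?_
  obtain ⟨x, rfl⟩ := f.surjective y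
  exact flat_stalkMap_of_comp f g x (Flat.stalkMap f x) (Flat.stalkMap (f ≫ g) x)

theorem isReduced_of_flat_surjective {X Y : Scheme.{u}} (f : X ⟶ Y)
    [Flat f] [Surjective f] [IsReduced X] : IsReduced Y := by
  have : ∀ y : Y, _root_.IsReduced (Y.presheaf.stalk y) := by
    intro y
    obtain ⟨x, rfl⟩ := f.surjective y
    exact isReduced_of_injective _ (faithfullyFlat_stalkMap f x (Flat.stalkMap f x)).injective
  exact isReduced_of_isReduced_stalk Y

end Groth.Agent.H12
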