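import Mathlib.AlgebraicGeometry.Morphisms.Proper
import Mathlib.AlgebraicGeometry.Morphisms.Immersion
import Mathlib.AlgebraicGeometry.Morphisms.Flat
import Groth.Agent.Lib.FpqcDesc.Basic
import Groth.Agent.Lib.SchBasic.Basic

set_option autoImplicit false

open AlgebraicGeometry CategoryTheory CategoryTheory.Limits

universe u

namespace Groth.Agent.H12

theorem isSeparated_of_surjective_universallyClosed {S X Y : Scheme.{u}} (p : X ⟶ S) (q : Y ⟶ S)
    (π : X ⟶ Y) (hπ : π ≫ q = p) [UniversallyClosed π] [Surjective π] [IsSeparated p] :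
    IsSeparated q := by
  subst hπ
  refine ⟨IsClosedImmersion.of_isPreimmersion _ ?_⟩
  let m : pullback (π ≫ q) (π ≫ q) ⟶ pullback q q :=
    pullback.map _ _ _ _ π π (𝟙 S) (Category.comp_id _) (Category.comp_id _)
  have hm : UniversallyClosed m := MorphismProperty.pullbackMap (P := @UniversallyClosed) inferInstance inferInstance rfl rfl
  have hd : π ≫ pullback.diagonal q = pullback.diagonal (π ≫ q) ≫ m := by
    apply pullback.hom_ext <;>
      simp only [Category.assoc, m, pullback.diagonal_fst, pullback.diagonal_snd, pullback.diagonal_fst_assoc, pullback.diagonal_snd_assoc, pullback.lift_fst, pullback.lift_snd, Category.comp_id]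
  have : Set.range (pullback.diagonal q) = m '' Set.range (pullback.diagonal (π ≫ q)) := by
    rw [← range_eq_range_of_surjective _ _ π hd, ← Set.range_comp]
    rfl
  rw [this]
  exact m.isClosedMap _ (pullback.diagonal (π ≫ q)).isClosedEmbedding.isClosed_range

theorem quasiSeparated_of_surjective_universallyClosed {S X Y : Scheme.{u}} (p : X ⟶ S) (q : Y ⟶ S)
    (π : X ⟶ Y) (hπ : π ≫ q = p) [UniversallyClosed π] [Surjective π] [QuasiSeparated p] :
    QuasiSeparated q := by
  subst hπ
  let m : pullback (π ≫ q) (π ≫ q) ⟶ pullback q q :=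
    pullback.map _ _ _ _ π π (𝟙 S) (Category.comp_id _) (Category.comp_id _)
  have hm : UniversallyClosed m := MorphismProperty.pullbackMap (P := @UniversallyClosed) inferInstance inferInstance rfl rfl
  have hd : π ≫ pullback.diagonal q = pullback.diagonal (π ≫ q) ≫ m := by
    apply pullback.hom_ext <;>
      simp only [Category.assoc, m, pullback.diagonal_fst, pullback.diagonal_snd, pullback.diagonal_fst_assoc, pullback.diagonal_snd_assoc, pullback.lift_fst, pullback.lift_snd, Category.comp_id]
  have : QuasiCompact (π ≫ pullback.diagonal q) := hd ▸ inferInstance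
  exact ⟨SchBasic.quasiCompact_of_comp_surjective π _⟩

theorem isSeparated_iff_mapDesc {X Y S : Scheme.{u}} (f : X ⟶ Y) (q : Y ⟶ S)
    [Flat f] [Surjective f] [QuasiCompact f] :
    IsSeparated q ↔ IsClosedImmersion (pullback.mapDesc f f q) := by
  have h := pullback_map_diagonal_isPullback f f q
  constructor
  · intro hs
    exact MorphismProperty.of_isPullback h hs.isClosedImmersion_diagonal
  · intro hm
    have := FpqcDesc.descendsAlong_isClosedImmersion.{u}
    refine ⟨MorphismProperty.of_isPullback_of_descendsAlong (P := @IsClosedImmersion)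
      (Q := @Surjective ⊓ @Flat ⊓ @QuasiCompact) h.flip ⟨⟨?_, ?_⟩, ?_⟩ hm⟩
    · exact MorphismProperty.pullbackMap (P := @Surjective) inferInstance inferInstance rfl rfl
    · exact MorphismProperty.pullbackMap (P := @Flat) inferInstance inferInstance rfl rfl
    · exact MorphismProperty.pullbackMap (P := @QuasiCompact) inferInstance inferInstance rfl rfl

open TensorProduct in
theorem flat_of_flat_of_faithfullyFlat_factor (A B C D : Type u) [CommRing A] [CommRing B]
    [CommRing C] [CommRing D] [Algebra A B] [Algebra A C] [Algebra B C] [IsScalarTower A B C]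
    [Algebra B D] [Algebra A D] [IsScalarTower A B D]
    (g : C →ₐ[B] D) [Module.Flat A C] [Module.FaithfullyFlat B D] : Module.Flat A B := by
  rw [Module.Flat.iff_lTensor_preserves_injective_linearMap]
  intro N P _ _ _ _ φ hφ
  let gA : C →ₗ[A] D := g.toLinearMap.restrictScalars A
  rw [← LinearMap.ker_eq_bot, LinearMap.ker_eq_bot']
  intro a ha
  let i := (IsScalarTower.toAlgHom A B C).toLinearMap
  have hC : Function.Injective (φ.lTensor C) :=
    Module.Flat.lTensor_preserves_injective_linearMap φ hφ
  have h1 : i.rTensor N a = 0 := hC (by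
    rw [map_zero, ← LinearMap.comp_apply, LinearMap.lTensor_comp_rTensor,
      ← LinearMap.rTensor_comp_lTensor, LinearMap.comp_apply, ha, map_zero])
  have h2 : (IsScalarTower.toAlgHom A B D).toLinearMap.rTensor N a = 0 := by
    have : (IsScalarTower.toAlgHom A B D).toLinearMap = gA.comp i := by
      ext b; simp [gA, i]
    rw [this, LinearMap.rTensor_comp, LinearMap.comp_apply, h1, map_zero]
  have hinj : Function.Injective ((IsScalarTower.toAlgHom A B D).toLinearMap.rTensor N) := by
    have h3 := Module.FaithfullyFlat.tensorProduct_mk_injective (A := B) (B := D) (B ⊗[A] N)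
    have h4 : ((IsScalarTower.toAlgHom A B D).toLinearMap.rTensor N : B ⊗[A] N → D ⊗[A] N) =
        (AlgebraTensorModule.cancelBaseChange A B B D N) ∘ (TensorProduct.mk B D (B ⊗[A] N) 1) := by
      funext x
      induction x using TensorProduct.induction_on with
      | zero => simp
      | tmul b n => simp [Algebra.algebraMap_eq_smul_one]
      | add x y hx hy =>
        simp only [Function.comp_apply] at hx hy ⊢
        rw [map_add, hx, hy, map_add, map_add]
    rw [h4]
    exact (LinearEquiv.injective _).comp h3
  exact hinj (by rw [h2, map_zero])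

theorem flat_of_flat_comp_refined {X Y Z Y' : Scheme.{u}} (f : X ⟶ Y) (q : Y ⟶ Z) (g : Y' ⟶ Y)
    [Flat g] [Surjective g] (l : Y' ⟶ X) (hl : l ≫ f = g) [Flat (f ≫ q)] : Flat q := by
  subst hl
  refine Flat.of_stalkMap _ fun y => ?_
  obtain ⟨y', rfl⟩ := (l ≫ f).surjective y
  have h1 : ((f ≫ q).stalkMap (l y')).hom.Flat := Flat.stalkMap (f ≫ q) (l y')
  have h2 : ((l ≫ f).stalkMap y').hom.Flat := Flat.stalkMap (l ≫ f) y'
  have h3 : IsLocalHom ((l ≫ f).stalkMap y').hom := inferInstance
  rw [Scheme.Hom.stalkMap_comp] at h1 h2 h3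
  change ((f.stalkMap (l y')).hom.comp (q.stalkMap (f (l y'))).hom).Flat at h1
  change ((l.stalkMap y').hom.comp (f.stalkMap (l y')).hom).Flat at h2
  change IsLocalHom ((l.stalkMap y').hom.comp (f.stalkMap (l y')).hom) at h3
  algebraize [(q.stalkMap (f (l y'))).hom, (f.stalkMap (l y')).hom, (l.stalkMap y').hom,
    (f.stalkMap (l y')).hom.comp (q.stalkMap (f (l y'))).hom,
    (l.stalkMap y').hom.comp (f.stalkMap (l y')).hom,
    ((l.stalkMap y').hom.comp (f.stalkMap (l y')).hom).comp (q.stalkMap (f (l y'))).hom]
  have : Module.FaithfullyFlat (Y.presheaf.stalk (f (l y'))) (Y'.presheaf.stalk y') :=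
    @Module.FaithfullyFlat.of_flat_of_isLocalHom _ _ _ _ _ _ _ h2 h3
  exact flat_of_flat_of_faithfullyFlat_factor (Z.presheaf.stalk (q (f (l y'))))
    (Y.presheaf.stalk (f (l y'))) (X.presheaf.stalk (l y')) (Y'.presheaf.stalk y')
    ⟨(l.stalkMap y').hom, fun _ => rfl⟩

end Groth.Agent.H12
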