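import Mathlib.AlgebraicGeometry.Morphisms.QuasiCompact
import Mathlib.AlgebraicGeometry.Morphisms.UniversallyOpen
import Mathlib.AlgebraicGeometry.Fiber
import Mathlib.RingTheory.Ideal.MinimalPrime.Localization

set_option autoImplicit false

open AlgebraicGeometry CategoryTheory

universe u

namespace Groth.Agent.H12

theorem exists_specializes_of_mem_closure_range_Spec {R S : CommRingCat.{u}} (φ : R ⟶ S)
    (x : Spec R) (hx : x ∈ closure (Set.range (Spec.map φ))) :
    ∃ t : Spec S, Spec.map φ t ⤳ x := by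
  change x ∈ closure (Set.range (PrimeSpectrum.comap φ.hom)) at hx
  rw [PrimeSpectrum.closure_range_comap] at hx
  have hx' : (⊥ : Ideal S).comap φ.hom ≤ x.asIdeal := fun r hr => hx hr
  obtain ⟨p, hp, hpx⟩ := Ideal.exists_minimalPrimes_le hx'
  obtain ⟨q, hq, -, hqp⟩ := Ideal.exists_comap_eq_of_mem_minimalPrimes φ.hom p hp
  refine ⟨⟨q, hq⟩, ?_⟩
  exact (PrimeSpectrum.le_iff_specializes (⟨Ideal.comap φ.hom q, inferInstance⟩ :
    PrimeSpectrum R) x).mp (hqp.trans_le hpx)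

theorem exists_specializes_of_mem_closure_range {T X : Scheme.{u}} (h : T ⟶ X) [QuasiCompact h]
    (x : X) (hx : x ∈ closure (Set.range h)) : ∃ t : T, h t ⤳ x := by
  wlog hX : ∃ R, X = Spec R generalizing T X
  · obtain ⟨i, x, rfl⟩ := X.affineCover.exists_eq x
    let g := X.affineCover.f i
    have hqc : QuasiCompact (Limits.pullback.snd h g) := MorphismProperty.pullback_snd _ _ inferInstance
    obtain ⟨t, ht⟩ := this (Limits.pullback.snd h g) x (by
      rw [Scheme.Pullback.range_snd, ← g.isOpenEmbedding.isOpenMap.preimage_closure_eq_closure_preimage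
        g.continuous]
      exact hx) ⟨_, rfl⟩
    refine ⟨Limits.pullback.fst h g t, ?_⟩
    have := ht.map g.continuous
    rwa [← Scheme.Hom.comp_apply, ← Limits.pullback.condition, Scheme.Hom.comp_apply] at this
  obtain ⟨R, rfl⟩ := hX
  have : CompactSpace T := QuasiCompact.compactSpace_of_compactSpace h
  let 𝒰 := T.affineCover.finiteSubcover
  have hcov : Set.range h = ⋃ i, Set.range (𝒰.f i ≫ h) := by
    ext y
    simp only [Set.mem_iUnion, Set.mem_range, Scheme.Hom.comp_apply]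
    constructor
    · rintro ⟨t, rfl⟩
      obtain ⟨i, s, rfl⟩ := 𝒰.exists_eq t
      exact ⟨i, s, rfl⟩
    · rintro ⟨i, s, rfl⟩
      exact ⟨_, rfl⟩
  rw [hcov, closure_iUnion_of_finite, Set.mem_iUnion] at hx
  obtain ⟨i, hi⟩ := hx
  let g : Spec _ ⟶ Spec R := 𝒰.f i ≫ h
  obtain ⟨φ, hφ⟩ := Spec.map_surjective g
  obtain ⟨t, ht⟩ := exists_specializes_of_mem_closure_range_Spec φ x (by rw [hφ]; exact hi)
  exact ⟨𝒰.f i t, by rw [hφ] at ht; exact ht⟩

instance fiberι_quasiCompact {X Y : Scheme.{u}} (f : X ⟶ Y) (y : Y)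
    [QuasiCompact (Y.fromSpecResidueField y)] : QuasiCompact (f.fiberι y) :=
  MorphismProperty.pullback_fst _ _ inferInstance

theorem quasiCompact_fromSpecResidueField_of_affine {Y : Scheme.{u}} [IsAffine Y] (y : Y) :
    QuasiCompact (Y.fromSpecResidueField y) :=
  inferInstance

theorem generalizingMap_of_isOpenMap {X Y : Scheme.{u}} (f : X ⟶ Y) (hf : IsOpenMap f) :
    GeneralizingMap f := by
  intro x y' hy
  replace hy : y' ⤳ f x := hy
  obtain ⟨(V : Y.Opens), hV, hfxV, -⟩ := (TopologicalSpace.Opens.isBasis_iff_nbhd.mp Y.isBasis_affineOpens)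
    (TopologicalSpace.Opens.mem_top (f x))
  have hy'V : y' ∈ V := hy.mem_open V.2 hfxV
  have : IsAffine (V : Scheme.{u}) := hV
  let g := f ∣_ V
  have hg : IsOpenMap g :=
    IsZariskiLocalAtTarget.restrict (P := topologically IsOpenMap) hf V
  let x₀ : (f ⁻¹ᵁ V : Scheme.{u}) := ⟨x, hfxV⟩
  let y₀ : (V : Scheme.{u}) := ⟨y', hy'V⟩
  have hsp : y₀ ⤳ g x₀ := by
    rw [← V.ι.isOpenEmbedding.isInducing.specializes_iff]
    have : V.ι (g x₀) = f x := by
      rw [← Scheme.Hom.comp_apply, morphismRestrict_ι, Scheme.Hom.comp_apply]; rfl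
    rw [this]; exact hy
  have hx : x₀ ∈ closure (Set.range (g.fiberι y₀)) := by
    rw [Scheme.Hom.range_fiberι, mem_closure_iff]
    intro o ho hxo
    obtain ⟨t, hto, ht⟩ := hsp.mem_open (hg o ho) ⟨x₀, hxo, rfl⟩
    exact ⟨t, hto, ht⟩
  obtain ⟨t, ht⟩ := exists_specializes_of_mem_closure_range (g.fiberι y₀) x₀ hx
  refine ⟨(f ⁻¹ᵁ V).ι (g.fiberι y₀ t), ht.map (f ⁻¹ᵁ V).ι.continuous, ?_⟩
  have h2 : g (g.fiberι y₀ t) = y₀ :=
    ((g.range_fiberι y₀).le ⟨t, rfl⟩ : _)
  rw [← Scheme.Hom.comp_apply, ← morphismRestrict_ι, Scheme.Hom.comp_apply, h2]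
  rfl

end Groth.Agent.H12
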