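import Groth.Agent.Lib.H12.Dim
import Groth.Agent.Lib.H12.Specialization
import Mathlib.AlgebraicGeometry.Morphisms.ClosedImmersion
import Mathlib.AlgebraicGeometry.Morphisms.Separated
import Mathlib.AlgebraicGeometry.Morphisms.Integral
import Mathlib.AlgebraicGeometry.Morphisms.Immersion
import Mathlib.AlgebraicGeometry.Limits
import Mathlib.AlgebraicGeometry.Morphisms.UniversallyOpen
import Mathlib.Topology.Connected.TotallyDisconnected
import Mathlib.Topology.Separation.Hausdorff

set_option autoImplicit false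

open AlgebraicGeometry CategoryTheory CategoryTheory.Limits TopologicalSpace

universe u

namespace Groth.Agent.H12

variable {X : Scheme.{u}}

theorem eq_of_specializes_of_dim_le_zero (h : topologicalKrullDim X ≤ 0) {x y : X} (e : x ⤳ y) :
    x = y :=
  topologicalKrullDim_nonpos_iff.mp h x y e

theorem isClopen_of_isCompact [QuasiSeparatedSpace X] (h : topologicalKrullDim X ≤ 0)
    (U : X.Opens) (hU : IsCompact (U : Set X)) : IsClopen (U : Set X) := by
  refine ⟨?_, U.2⟩
  have : CompactSpace U.toScheme := isCompact_iff_compactSpace.mp hU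
  have : QuasiCompact U.ι := inferInstance
  refine isClosed_of_closure_subset fun x hx => ?_
  obtain ⟨t, ht⟩ := exists_specializes_of_mem_closure_range U.ι x (by rwa [U.range_ι])
  have := eq_of_specializes_of_dim_le_zero h ht
  rw [← this]
  exact t.2

theorem totallySeparatedSpace_of_dim_le_zero [QuasiSeparatedSpace X]
    (h : topologicalKrullDim X ≤ 0) : TotallySeparatedSpace X := by
  refine totallySeparatedSpace_iff_exists_isClopen.mpr fun x y hxy => ?_
  rcases exists_isOpen_xor_mem hxy with ⟨o, ho, hc⟩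
  rcases hc with ⟨hx, hy⟩ | ⟨hy, hx⟩
  · obtain ⟨(U : X.Opens), hU, hxU, hUo⟩ := Opens.isBasis_iff_nbhd.mp X.isBasis_affineOpens
      (show x ∈ (⟨o, ho⟩ : X.Opens) from hx)
    exact ⟨U, isClopen_of_isCompact h U (IsAffineOpen.isCompact hU), hxU, fun h' => hy (hUo h')⟩
  · obtain ⟨(U : X.Opens), hU, hyU, hUo⟩ := Opens.isBasis_iff_nbhd.mp X.isBasis_affineOpens
      (show y ∈ (⟨o, ho⟩ : X.Opens) from hy)
    exact ⟨(U : Set X)ᶜ, (isClopen_of_isCompact h U (IsAffineOpen.isCompact hU)).compl,
      fun h' => hx (hUo h'), fun h' => h' hyU⟩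

theorem isSeparated_of_t2Space [T2Space X] : X.IsSeparated := by
  refine ⟨⟨?_⟩⟩
  set p := terminal.from X
  refine IsClosedImmersion.of_isPreimmersion _ (isClosed_of_closure_subset fun z hz => ?_)
  have hc : IsClosed {w : ↑(pullback p p) | pullback.fst p p w = pullback.snd p p w} :=
    isClosed_eq (pullback.fst p p).continuous (pullback.snd p p).continuous
  have hsub : Set.range (pullback.diagonal p) ⊆
      {w : ↑(pullback p p) | pullback.fst p p w = pullback.snd p p w} := by
    rintro _ ⟨a, rfl⟩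
    show pullback.fst p p _ = pullback.snd p p _
    rw [← Scheme.Hom.comp_apply, ← Scheme.Hom.comp_apply, pullback.diagonal_fst,
      pullback.diagonal_snd]
  have hz' : pullback.fst p p z = pullback.snd p p z := closure_minimal hsub hc hz
  obtain ⟨(U : X.Opens), hU, hzU, -⟩ := Opens.isBasis_iff_nbhd.mp X.isBasis_affineOpens
    (Opens.mem_top (pullback.fst p p z))
  have : IsAffine (U : Scheme.{u}) := hU
  let j : pullback (U.ι ≫ p) (U.ι ≫ p) ⟶ pullback p p :=
    pullback.map _ _ _ _ U.ι U.ι (𝟙 _) (by simp) (by simp)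
  have hj : Topology.IsOpenEmbedding j := j.isOpenEmbedding
  obtain ⟨w, hw⟩ : z ∈ Set.range j := by
    rw [Scheme.Pullback.range_map, Scheme.Opens.range_ι]
    exact ⟨hzU, show pullback.snd p p z ∈ U from hz' ▸ hzU⟩
  have : IsSeparated (U.ι ≫ p) := inferInstance
  have hdiag : U.ι ≫ pullback.diagonal p = pullback.diagonal (U.ι ≫ p) ≫ j := by
    apply pullback.hom_ext <;>
      simp only [Category.assoc, j, pullback.diagonal_fst, pullback.diagonal_snd, pullback.diagonal_fst_assoc, pullback.diagonal_snd_assoc, pullback.lift_fst, pullback.lift_snd, Category.comp_id]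
  have hpre : j ⁻¹' Set.range (pullback.diagonal p) ⊆
      Set.range (pullback.diagonal (U.ι ≫ p)) := by
    rintro w' ⟨a, ha⟩
    have hjf : j ≫ pullback.fst p p = pullback.fst (U.ι ≫ p) (U.ι ≫ p) ≫ U.ι := pullback.lift_fst _ _ _
    have ha' : a = U.ι (pullback.fst (U.ι ≫ p) (U.ι ≫ p) w') := by
      have := congrArg (pullback.fst p p) ha
      rw [← Scheme.Hom.comp_apply, pullback.diagonal_fst, ← Scheme.Hom.comp_apply, hjf,
        Scheme.Hom.comp_apply] at this
      exact this
    refine ⟨pullback.fst (U.ι ≫ p) (U.ι ≫ p) w', hj.injective ?_⟩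
    rw [← Scheme.Hom.comp_apply (f := pullback.diagonal (U.ι ≫ p)), ← hdiag, Scheme.Hom.comp_apply,
      ← ha', ha]
  have hw' : w ∈ Set.range (pullback.diagonal (U.ι ≫ p)) := by
    have h1 : w ∈ j ⁻¹' closure (Set.range (pullback.diagonal p)) := by rwa [Set.mem_preimage, hw]
    rw [hj.isOpenMap.preimage_closure_eq_closure_preimage hj.continuous] at h1
    exact closure_minimal hpre (pullback.diagonal (U.ι ≫ p)).isClosedEmbedding.isClosed_range h1
  obtain ⟨b, rfl⟩ := hw'
  exact ⟨U.ι b, by rw [← hw, ← Scheme.Hom.comp_apply, hdiag, Scheme.Hom.comp_apply]⟩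

end Groth.Agent.H12

namespace Groth.Agent.H12

theorem isAffineOpen_of_isClosed_of_le {X : Scheme.{u}} {U V : X.Opens} (hV : IsAffineOpen V)
    (h : U ≤ V) (hU : IsClosed (U : Set X)) : IsAffineOpen U := by
  have : IsAffine (V : Scheme.{u}) := hV
  have : IsClosedImmersion (X.homOfLE h) := by
    refine IsClosedImmersion.of_isPreimmersion _ ?_
    have : Set.range (X.homOfLE h) = V.ι ⁻¹' (U : Set X) := by
      ext v
      constructor
      · rintro ⟨u, rfl⟩
        show V.ι (X.homOfLE h u) ∈ U
        rw [← Scheme.Hom.comp_apply, Scheme.homOfLE_ι]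
        exact u.2
      · intro hv
        refine ⟨⟨v.1, hv⟩, V.ι.isOpenEmbedding.injective ?_⟩
        rw [← Scheme.Hom.comp_apply, Scheme.homOfLE_ι]
        rfl
    rw [this]
    exact hU.preimage V.ι.continuous
  exact isAffine_of_isAffineHom (X.homOfLE h)

theorem isAffineOpen_of_isCompact_of_dim_le_zero {X : Scheme.{u}} [QuasiSeparatedSpace X]
    (h : topologicalKrullDim X ≤ 0) (U : X.Opens) (hU : IsCompact (U : Set X)) :
    IsAffineOpen U := by
  have : IsCompact (U : Set X) ∧ IsAffineOpen U := by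
    refine compact_open_induction_on U hU ⟨isCompact_empty, isAffineOpen_bot X⟩ ?_
    rintro S hS ⟨V, hV⟩ ⟨-, hSaff⟩
    have hc : IsCompact ((S ⊔ V : X.Opens) : Set X) := hS.union (IsAffineOpen.isCompact hV)
    refine ⟨hc, ?_⟩
    have hSc := isClopen_of_isCompact h S hS
    have hVc := isClopen_of_isCompact h V (IsAffineOpen.isCompact hV)
    let V' : X.Opens := ⟨(V : Set X) \ S, hVc.2.sdiff hSc.1⟩
    have hV' : IsAffineOpen V' := isAffineOpen_of_isClosed_of_le hV Set.diff_subset (hVc.1.sdiff hSc.2)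
    have : S ⊔ V = S ⊔ V' := by
      ext x
      show x ∈ (S : Set X) ∪ V ↔ x ∈ (S : Set X) ∪ ((V : Set X) \ S)
      rw [Set.union_diff_self]
    show IsAffineOpen (S ⊔ V)
    rw [this]
    refine IsAffineOpen.sup_of_disjoint hSaff hV' ?_
    rw [disjoint_iff]
    ext x
    simp [V']
  exact this.2

theorem universallyOpen_of_discreteTopology {X Y : Scheme.{u}} (f : X ⟶ Y) [DiscreteTopology Y] :
    UniversallyOpen f := by
  refine ⟨MorphismProperty.universally_mk' (P := topologically IsOpenMap) f fun {T} g _ => ?_⟩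
  intro s hs
  rw [isOpen_iff_forall_mem_open]
  rintro t ⟨z, hz, rfl⟩
  let y : Y := g (pullback.fst g f z)
  let Z : Scheme.{u} := Spec (Y.residueField y)
  let c : Z ⟶ Y := Y.fromSpecResidueField y
  let pT := pullback.fst g c
  let W : Scheme.{u} := pullback (pullback.fst g f) pT
  have hW : IsOpenMap (pullback.snd (pullback.fst g f) pT) := by
    have h1 : UniversallyOpen (pullback.snd f c) := inferInstance
    have hsq : IsPullback (pullback.fst (pullback.fst g f) pT ≫ pullback.snd g f)
        (pullback.snd (pullback.fst g f) pT) f (pT ≫ g) :=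
      (IsPullback.of_hasPullback (pullback.fst g f) pT).paste_horiz
        (IsPullback.of_hasPullback g f).flip
    have hfg : pT ≫ g = pullback.snd g c ≫ c := pullback.condition
    have h2 : IsPullback (pullback.lift (pullback.fst (pullback.fst g f) pT ≫ pullback.snd g f)
        (pullback.snd (pullback.fst g f) pT ≫ pullback.snd g c)
        (by rw [hsq.w, Category.assoc, hfg]))
        (pullback.snd (pullback.fst g f) pT) (pullback.snd f c) (pullback.snd g c) := by
      refine IsPullback.of_right ?_ (pullback.lift_snd _ _ _) (IsPullback.of_hasPullback f c)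
      rw [pullback.lift_fst, ← hfg]
      exact hsq
    have : UniversallyOpen (pullback.snd (pullback.fst g f) pT) :=
      MorphismProperty.of_isPullback h2 h1
    exact Scheme.Hom.isOpenMap _
  let o : Set T := g ⁻¹' {y}
  have ho : IsOpen o := (isOpen_discrete {y}).preimage g.continuous
  obtain ⟨t', ht', -⟩ := Scheme.Pullback.exists_preimage_pullback (f := g) (g := c)
    (pullback.fst g f z) (IsLocalRing.closedPoint _) (Scheme.fromSpecResidueField_apply _ _).symm
  obtain ⟨w, hw₁, hw₂⟩ := Scheme.Pullback.exists_preimage_pullback (f := pullback.fst g f) (g := pT)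
    z t' ht'.symm
  refine ⟨pT '' (pullback.snd (pullback.fst g f) pT '' (pullback.fst (pullback.fst g f) pT ⁻¹' s)),
    ?_, ?_, ⟨t', ⟨w, by rwa [Set.mem_preimage, hw₁], hw₂⟩, ht'⟩⟩
  · rintro _ ⟨_, ⟨w, hw, rfl⟩, rfl⟩
    refine ⟨_, hw, ?_⟩
    rw [← Scheme.Hom.comp_apply, pullback.condition, Scheme.Hom.comp_apply]
  · have hrange : Set.range pT = o := by
      simp [pT, o, Z, Scheme.Pullback.range_fst, c, Scheme.range_fromSpecResidueField]
    have hemb : Topology.IsEmbedding pT := pT.isEmbedding
    have hopen : Topology.IsOpenEmbedding pT := ⟨hemb, hrange ▸ ho⟩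
    exact hopen.isOpenMap _ (hW _ (hs.preimage (pullback.fst (pullback.fst g f) pT).continuous))

theorem eq_of_specializes_of_isIntegralHom {X S : Scheme.{u}} (f : X ⟶ S) [IsIntegralHom f]
    {x x' : X} (h : x ⤳ x') (he : f x = f x') : x = x' := by
  obtain ⟨(V : S.Opens), hV, hxV, -⟩ := Opens.isBasis_iff_nbhd.mp S.isBasis_affineOpens
    (Opens.mem_top (f x'))
  have hU : IsAffineOpen (f ⁻¹ᵁ V) := hV.preimage f
  have hint := f.isIntegral_app V hV
  have hx : x ∈ f ⁻¹ᵁ V := show f x ∈ V from he ▸ hxV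
  let P : Spec Γ(X, f ⁻¹ᵁ V) := hU.primeIdealOf ⟨x, hx⟩
  let P' : Spec Γ(X, f ⁻¹ᵁ V) := hU.primeIdealOf ⟨x', hxV⟩
  have hP : hU.fromSpec P = x := hU.fromSpec_primeIdealOf ⟨x, hx⟩
  have hP' : hU.fromSpec P' = x' := hU.fromSpec_primeIdealOf ⟨x', hxV⟩
  have hPP : P ⤳ P' := by
    rw [← hU.fromSpec.isOpenEmbedding.isInducing.specializes_iff, hP, hP']; exact h
  have hle : P.asIdeal ≤ P'.asIdeal := (PrimeSpectrum.le_iff_specializes P P').mpr hPP
  algebraize [(f.app V).hom]
  have key : PrimeSpectrum.comap (f.app V).hom P = PrimeSpectrum.comap (f.app V).hom P' := by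
    apply hV.fromSpec.isOpenEmbedding.injective
    have e := IsAffineOpen.SpecMap_appLE_fromSpec f hV hU le_rfl
    rw [← Scheme.Hom.app_eq_appLE] at e
    change hV.fromSpec (Spec.map (f.app V) P) = hV.fromSpec (Spec.map (f.app V) P')
    rw [← Scheme.Hom.comp_apply, ← Scheme.Hom.comp_apply, e, Scheme.Hom.comp_apply,
      Scheme.Hom.comp_apply, hP, hP', he]
  rcases eq_or_lt_of_le hle with heq | hlt
  · rw [← hP, ← hP']
    congr 1
    exact PrimeSpectrum.ext heq
  · have : P.asIdeal.IsPrime := P.2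
    have := Ideal.IsIntegral.comap_lt_comap (R := Γ(S, V)) hlt
    exact absurd (congrArg PrimeSpectrum.asIdeal key) this.ne

end Groth.Agent.H12
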