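import Mathlib.Topology.KrullDimension
import Mathlib.Topology.Separation.Basic
import Mathlib.Topology.Sober

set_option autoImplicit false

universe u

open TopologicalSpace

namespace Groth.Agent.H12

variable {X Y : Type*} [TopologicalSpace X] [TopologicalSpace Y] [QuasiSober X] [T0Space X]
  [QuasiSober Y] [T0Space Y]

attribute [local instance] specializationOrder

theorem topologicalKrullDim_eq_krullDim_specializationOrder :
    topologicalKrullDim X = Order.krullDim X :=
  Order.krullDim_eq_of_orderIso irreducibleSetEquivPoints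

theorem topologicalKrullDim_nonpos_iff :
    topologicalKrullDim X ≤ 0 ↔ ∀ x y : X, x ⤳ y → x = y := by
  rw [topologicalKrullDim_eq_krullDim_specializationOrder, Order.krullDim_nonpos_iff_forall_isMax]
  exact ⟨fun h x y hxy => le_antisymm (h y hxy) hxy, fun h a b hab => (h b a hab).le⟩

/-- If a continuous map has no specializations within fibres, it does not lower the dimension. -/
theorem topologicalKrullDim_le_of_eq_of_specializes (f : X → Y) (hf : Continuous f)
    (h : ∀ x x' : X, x ⤳ x' → f x = f x' → x = x') :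
    topologicalKrullDim X ≤ topologicalKrullDim Y := by
  rw [topologicalKrullDim_eq_krullDim_specializationOrder,
    topologicalKrullDim_eq_krullDim_specializationOrder]
  refine Order.krullDim_le_of_strictMono f fun a b hab => ?_
  refine lt_of_le_of_ne ((show b ⤳ a from hab.le).map hf) fun e => hab.ne ?_
  exact (h b a hab.le e.symm).symm

omit [QuasiSober X] [T0Space X] [QuasiSober Y] [T0Space Y] in
theorem exists_chain_lift_of_specializingMap (f : X → Y) (hf : SpecializingMap f) :
    ∀ (n : ℕ) (s : Fin (n + 1) → Y), (∀ i : Fin n, s i.castSucc ⤳ s i.succ) →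
      ∀ x : X, f x = s 0 → ∃ t : Fin (n + 1) → X,
        t 0 = x ∧ (∀ i : Fin n, t i.castSucc ⤳ t i.succ) ∧ ∀ i, f (t i) = s i := by
  intro n
  induction n with
  | zero =>
    intro s _ x hx
    exact ⟨fun _ => x, rfl, fun i => i.elim0, fun i => by rw [Subsingleton.elim (α := Fin 1) i 0, hx]⟩
  | succ n ih =>
    intro s hs x hx
    have h01 : f x ⤳ s 1 := by rw [hx]; exact hs 0
    obtain ⟨x₁, hx₁, hfx₁⟩ := hf h01
    obtain ⟨t, ht0, htc, htf⟩ := ih (fun i => s i.succ) (fun i => by simpa using hs i.succ) x₁ hfx₁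
    refine ⟨Fin.cons x t, rfl, fun i => ?_, fun i => ?_⟩
    · refine Fin.cases ?_ (fun j => ?_) i
      · simpa [ht0, flip] using hx₁
      · simpa using htc j
    · refine Fin.cases ?_ (fun j => ?_) i
      · simpa using hx
      · simpa using htf j

omit [QuasiSober X] [T0Space X] [QuasiSober Y] [T0Space Y] in
theorem exists_chain_lift_of_generalizingMap (f : X → Y) (hf : GeneralizingMap f) :
    ∀ (n : ℕ) (s : Fin (n + 1) → Y), (∀ i : Fin n, s i.castSucc ⤳ s i.succ) →
      ∀ x : X, f x = s (Fin.last n) → ∃ t : Fin (n + 1) → X,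
        t (Fin.last n) = x ∧ (∀ i : Fin n, t i.castSucc ⤳ t i.succ) ∧ ∀ i, f (t i) = s i := by
  intro n
  induction n with
  | zero =>
    intro s _ x hx
    exact ⟨fun _ => x, rfl, fun i => i.elim0, fun i => by
      rw [Subsingleton.elim (α := Fin 1) i (Fin.last 0), hx]⟩
  | succ n ih =>
    intro s hs x hx
    have h01 : s (Fin.last n).castSucc ⤳ f x := by
      rw [hx, ← Fin.succ_last]; exact hs (Fin.last n)
    obtain ⟨x₁, hx₁, hfx₁⟩ := hf h01
    obtain ⟨t, ht0, htc, htf⟩ := ih (fun i => s i.castSucc) (fun i => by simpa using hs i.castSucc)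
      x₁ hfx₁
    refine ⟨Fin.snoc t x, by simp, fun i => ?_, fun i => ?_⟩
    · refine Fin.lastCases ?_ (fun j => ?_) i
      · rw [Fin.snoc_castSucc, Fin.succ_last, Fin.snoc_last, ht0]; exact hx₁
      · rw [Fin.snoc_castSucc, Fin.succ_castSucc, Fin.snoc_castSucc]; exact htc j
    · refine Fin.lastCases ?_ (fun j => ?_) i
      · simpa using hx
      · simpa using htf j

/-- Chains in the image lift, when `f` lifts specializations or generalizations. -/
theorem topologicalKrullDim_le_of_surjective_of_lift (f : X → Y) (hs : Function.Surjective f)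
    (h : SpecializingMap f ∨ GeneralizingMap f) :
    topologicalKrullDim Y ≤ topologicalKrullDim X := by
  rw [topologicalKrullDim_eq_krullDim_specializationOrder,
    topologicalKrullDim_eq_krullDim_specializationOrder]
  refine iSup_le fun p => ?_
  have hp : ∀ i : Fin p.length, p.toFun i.succ ⤳ p.toFun i.castSucc := fun i => (p.step i).le
  have hp' : ∀ i : Fin p.length, (p.toFun ∘ Fin.rev) i.castSucc ⤳ (p.toFun ∘ Fin.rev) i.succ := by
    intro i
    simpa [Fin.rev_succ, Fin.rev_castSucc] using hp i.rev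
  obtain ⟨t, htc, htf⟩ : ∃ t : Fin (p.length + 1) → X,
      (∀ i : Fin p.length, t i.castSucc ⤳ t i.succ) ∧ ∀ i, f (t i) = (p.toFun ∘ Fin.rev) i := by
    rcases h with h | h
    · obtain ⟨x, hx⟩ := hs ((p.toFun ∘ Fin.rev) 0)
      obtain ⟨t, -, h₁, h₂⟩ := exists_chain_lift_of_specializingMap f h _ _ hp' x hx
      exact ⟨t, h₁, h₂⟩
    · obtain ⟨x, hx⟩ := hs ((p.toFun ∘ Fin.rev) (Fin.last _))
      obtain ⟨t, -, h₁, h₂⟩ := exists_chain_lift_of_generalizingMap f h _ _ hp' x hx
      exact ⟨t, h₁, h₂⟩
  refine le_iSup_of_le ⟨p.length, t ∘ Fin.rev, fun i => ?_⟩ le_rfl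
  show (t ∘ Fin.rev) i.castSucc < (t ∘ Fin.rev) i.succ
  refine lt_of_le_of_ne ?_ fun e => (show p.toFun i.castSucc < p.toFun i.succ from p.step i).ne ?_
  · simp only [Function.comp_apply, Fin.rev_succ, Fin.rev_castSucc]; exact htc i.rev
  · have := congrArg f e
    simpa [htf] using this

end Groth.Agent.H12
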