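import Groth.Agent.Lib.H12.Specialization
import Groth.Agent.Lib.FpqcDesc.Basic
import Groth.Agent.Lib.SchBasic.Basic
import Mathlib.AlgebraicGeometry.Morphisms.Immersion
import Mathlib.AlgebraicGeometry.IdealSheaf.Subscheme

set_option autoImplicit false

open AlgebraicGeometry CategoryTheory CategoryTheory.Limits

universe u

namespace Groth.Agent.H12

theorem preimage_closure_image_of_flat {X Y Z : Scheme.{u}} (f : X ⟶ Z) (g : Y ⟶ Z) [Flat f]
    [QuasiCompact g] {C : Set Y} (hC : IsClosed C) :
    f ⁻¹' closure (g '' C) = closure (f ⁻¹' (g '' C)) := by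
  refine Set.Subset.antisymm (fun x hx => ?_)
    (closure_minimal (Set.preimage_mono subset_closure) (isClosed_closure.preimage f.continuous))
  let I := Scheme.IdealSheafData.vanishingIdeal ⟨C, hC⟩
  have hr : Set.range (I.subschemeι) = C := by
    rw [Scheme.IdealSheafData.range_subschemeι]; exact Scheme.IdealSheafData.coe_support_vanishingIdeal _
  have hrange : Set.range (I.subschemeι ≫ g) = g '' C := by
    rw [← hr, ← Set.range_comp]; rfl
  obtain ⟨t, ht⟩ := exists_specializes_of_mem_closure_range (I.subschemeι ≫ g) (f x)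
    (by rwa [hrange])
  obtain ⟨x', hx', hfx'⟩ := Flat.generalizingMap f ht
  have hmem : x' ∈ f ⁻¹' (g '' C) := by
    rw [Set.mem_preimage, hfx', ← hrange]; exact ⟨t, rfl⟩
  exact hx'.mem_closed isClosed_closure (subset_closure hmem)

theorem image_pullback_fst_preimage {X Y Z : Scheme.{u}} (f : X ⟶ Z) (g : Y ⟶ Z) (C : Set Y) :
    pullback.fst f g '' (pullback.snd f g ⁻¹' C) = f ⁻¹' (g '' C) := by
  ext x
  constructor
  · rintro ⟨z, hz, rfl⟩
    exact ⟨_, hz, by rw [← Scheme.Hom.comp_apply, ← pullback.condition]; rfl⟩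
  · rintro ⟨y, hy, e⟩
    obtain ⟨z, h₁, h₂⟩ := Scheme.Pullback.exists_preimage_pullback x y e.symm
    exact ⟨z, by rwa [Set.mem_preimage, h₂], h₁⟩

theorem isClosed_of_preimage_of_isQuotientMap {X Z : Type*} [TopologicalSpace X] [TopologicalSpace Z]
    {f : X → Z} (hf : Topology.IsQuotientMap f) {s : Set Z} (hs : IsClosed (f ⁻¹' s)) : IsClosed s :=
  hf.isClosed_preimage.mp hs

theorem isImmersion_of_pullback {X Y Z : Scheme.{u}} (f : X ⟶ Z) (g : Y ⟶ Z)
    (hclos : f ⁻¹' closure (Set.range g) = closure (f ⁻¹' Set.range g))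
    (hq : Topology.IsQuotientMap f)
    (hdesc : ∀ U : Z.Opens, IsClosedImmersion (pullback.fst (f ∣_ U) (g ∣_ U)) →
      IsClosedImmersion (g ∣_ U))
    [IsImmersion (pullback.fst f g)] : IsImmersion g := by
  let p := pullback.fst f g
  have hrange : Set.range p = f ⁻¹' Set.range g := Scheme.Pullback.range_fst _ _
  have hbad : IsClosed (closure (Set.range g) \ Set.range g) := by
    refine isClosed_of_preimage_of_isQuotientMap hq ?_
    rw [Set.preimage_sdiff, hclos, ← hrange]
    simpa [coborder] using p.isLocallyClosed_range.isOpen_coborder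
  let U : Z.Opens := ⟨(closure (Set.range g) \ Set.range g)ᶜ, hbad.isOpen_compl⟩
  have hgU : g ⁻¹ᵁ U = ⊤ := top_le_iff.mp fun y _ h => h.2 ⟨y, rfl⟩
  have hpU : Set.range p ⊆ f ⁻¹' U := by
    rw [hrange]; exact fun x hx h => h.2 hx
  -- the base change over `U` is a closed immersion
  have h1 : IsPullback (pullback.snd (f ∣_ U) (g ∣_ U) ≫ (g ⁻¹ᵁ U).ι)
      (pullback.fst (f ∣_ U) (g ∣_ U)) g ((f ⁻¹ᵁ U).ι ≫ f) := by
    rw [← morphismRestrict_ι]
    exact (IsPullback.of_hasPullback (f ∣_ U) (g ∣_ U)).flip.paste_horiz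
      (isPullback_morphismRestrict g U).flip
  let k : pullback (f ∣_ U) (g ∣_ U) ⟶ pullback f g :=
    pullback.lift (pullback.fst (f ∣_ U) (g ∣_ U) ≫ (f ⁻¹ᵁ U).ι)
      (pullback.snd (f ∣_ U) (g ∣_ U) ≫ (g ⁻¹ᵁ U).ι) (by rw [Category.assoc]; exact h1.w.symm)
  have h2 : IsPullback k (pullback.fst (f ∣_ U) (g ∣_ U)) p (f ⁻¹ᵁ U).ι := by
    refine IsPullback.of_right (h₁₂ := pullback.snd f g) ?_ (pullback.lift_fst _ _ _)
      (IsPullback.of_hasPullback f g).flip
    rw [pullback.lift_snd]
    exact h1
  have himm : IsImmersion (pullback.fst (f ∣_ U) (g ∣_ U)) :=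
    MorphismProperty.of_isPullback h2 inferInstance
  have hcl : IsClosedImmersion (pullback.fst (f ∣_ U) (g ∣_ U)) := by
    refine IsClosedImmersion.of_isPreimmersion _ ?_
    have : Set.range (pullback.fst (f ∣_ U) (g ∣_ U)) =
        (f ⁻¹ᵁ U).ι ⁻¹' (f ⁻¹' closure (Set.range g)) := by
      rw [Scheme.Pullback.range_fst]
      ext ⟨x, hx⟩
      constructor
      · rintro ⟨⟨y, hy⟩, e⟩
        show f x ∈ closure (Set.range g)
        have e' := congrArg U.ι e
        rw [← Scheme.Hom.comp_apply, morphismRestrict_ι, ← Scheme.Hom.comp_apply, morphismRestrict_ι] at e'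
        change g y = f x at e'
        exact subset_closure ⟨y, e'⟩
      · intro (hmem : f x ∈ closure (Set.range g))
        obtain ⟨y, hy⟩ : f x ∈ Set.range g := by
          by_contra h'
          exact hx ⟨hmem, h'⟩
        refine ⟨⟨y, show g y ∈ U from hy ▸ hx⟩, U.ι.isOpenEmbedding.injective ?_⟩
        rw [← Scheme.Hom.comp_apply, morphismRestrict_ι, ← Scheme.Hom.comp_apply, morphismRestrict_ι]
        exact hy
    rw [this]
    exact (isClosed_closure.preimage f.continuous).preimage (f ⁻¹ᵁ U).ι.continuous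
  have hg : IsClosedImmersion (g ∣_ U) := hdesc U hcl
  have : IsIso (g ⁻¹ᵁ U).ι := by
    rw [hgU]
    exact (Scheme.topIso Y).isIso_hom
  have : IsImmersion ((g ⁻¹ᵁ U).ι ≫ g) := by
    rw [← morphismRestrict_ι]
    infer_instance
  exact (MorphismProperty.cancel_left_of_respectsIso @IsImmersion (g ⁻¹ᵁ U).ι g).mp this

theorem descendsAlong_isImmersion_qc :
    MorphismProperty.DescendsAlong (@IsImmersion ⊓ @QuasiCompact : MorphismProperty Scheme.{u})
      (@Surjective ⊓ @Flat ⊓ @QuasiCompact : MorphismProperty Scheme.{u}) := by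
  apply MorphismProperty.DescendsAlong.mk'
  intro X Y Z f g _ hf h
  obtain ⟨⟨_, _⟩, _⟩ := hf
  obtain ⟨_, hqc⟩ := h
  have := FpqcDesc.descendsAlong_quasiCompact.{u}
  have : QuasiCompact g := MorphismProperty.of_pullback_fst_of_descendsAlong
    (Q := @Surjective ⊓ @Flat ⊓ @QuasiCompact) (f := f)
    ⟨⟨inferInstance, inferInstance⟩, inferInstance⟩ hqc
  refine ⟨isImmersion_of_pullback f g ?_ (Flat.isQuotientMap_of_surjective f) fun U hU => ?_, this⟩
  · simpa [Set.image_univ] using preimage_closure_image_of_flat f g isClosed_univ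
  · have := FpqcDesc.descendsAlong_isClosedImmersion.{u}
    exact MorphismProperty.of_pullback_fst_of_descendsAlong
      (Q := @Surjective ⊓ @Flat ⊓ @QuasiCompact) (f := f ∣_ U)
      ⟨⟨IsZariskiLocalAtTarget.restrict ‹_› U, inferInstance⟩, inferInstance⟩ hU

theorem descendsAlong_isImmersion_fppf :
    MorphismProperty.DescendsAlong (@IsImmersion : MorphismProperty Scheme.{u})
      (@Surjective ⊓ @Flat ⊓ @LocallyOfFinitePresentation : MorphismProperty Scheme.{u}) := by
  apply MorphismProperty.DescendsAlong.mk'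
  intro X Y Z f g _ hf h
  obtain ⟨⟨_, _⟩, _⟩ := hf
  have : IsImmersion (pullback.fst f g) := h
  refine isImmersion_of_pullback f g ?_ (f.isOpenMap.isQuotientMap f.continuous f.surjective)
    fun U hU => ?_
  · exact f.isOpenMap.preimage_closure_eq_closure_preimage f.continuous _
  · have := FpqcDesc.descendsAlong_isClosedImmersion.{u}
    exact MorphismProperty.of_pullback_fst_of_descendsAlong (P := @IsClosedImmersion)
      (Q := @Surjective ⊓ @Flat ⊓ @LocallyOfFinitePresentation) (f := f ∣_ U)
      ⟨⟨IsZariskiLocalAtTarget.restrict ‹_› U, inferInstance⟩, inferInstance⟩ hU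

theorem isEmbedding_of_pullback {X Y Z : Scheme.{u}} (f : X ⟶ Z) (g : Y ⟶ Z) [Flat f] [Surjective f]
    [QuasiCompact g] (h : Topology.IsEmbedding (pullback.fst f g)) : Topology.IsEmbedding g := by
  have hinj : Function.Injective g := by
    intro y₁ y₂ e
    obtain ⟨x, hx⟩ := f.surjective (g y₁)
    obtain ⟨z₁, h₁, h₁'⟩ := Scheme.Pullback.exists_preimage_pullback x y₁ hx
    obtain ⟨z₂, h₂, h₂'⟩ := Scheme.Pullback.exists_preimage_pullback x y₂ (hx.trans e)
    rw [← h₁', ← h₂', h.injective (h₁.trans h₂.symm)]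
  refine ⟨⟨le_antisymm (continuous_iff_le_induced.mp g.continuous) ?_⟩, hinj⟩
  intro s hs
  have hC : IsClosed sᶜ := hs.isClosed_compl
  have heq : g ⁻¹' closure (g '' sᶜ) = sᶜ := by
    refine Set.Subset.antisymm (fun y hy => ?_) (fun y hy => subset_closure ⟨y, hy, rfl⟩)
    obtain ⟨x, hx⟩ := f.surjective (g y)
    obtain ⟨z, h₁, h₂⟩ := Scheme.Pullback.exists_preimage_pullback x y hx
    have hz : pullback.fst f g z ∈ closure (pullback.fst f g '' (pullback.snd f g ⁻¹' sᶜ)) := by
      rw [image_pullback_fst_preimage, ← preimage_closure_image_of_flat f g hC, Set.mem_preimage,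
        h₁, hx]
      exact hy
    rw [← Set.mem_preimage, ← h.closure_eq_preimage_closure_image,
      (hC.preimage (pullback.snd f g).continuous).closure_eq, Set.mem_preimage, h₂] at hz
    exact hz
  exact ⟨(closure (g '' sᶜ))ᶜ, isClosed_closure.isOpen_compl,
    by rw [Set.preimage_compl, heq, compl_compl]⟩

theorem descendsAlong_isEmbedding_qc :
    MorphismProperty.DescendsAlong
      (topologically (fun f => Topology.IsEmbedding f) ⊓ @QuasiCompact : MorphismProperty Scheme.{u})
      (@Surjective ⊓ @Flat ⊓ @QuasiCompact : MorphismProperty Scheme.{u}) := by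
  have : (topologically (fun f => Topology.IsEmbedding f) : MorphismProperty Scheme.{u}).RespectsIso :=
    inferInstanceAs (topologically Topology.IsEmbedding).RespectsIso
  apply MorphismProperty.DescendsAlong.mk'
  intro X Y Z f g _ hf h
  obtain ⟨⟨_, _⟩, _⟩ := hf
  obtain ⟨he, hqc⟩ := h
  have := FpqcDesc.descendsAlong_quasiCompact.{u}
  have : QuasiCompact g := MorphismProperty.of_pullback_fst_of_descendsAlong
    (Q := @Surjective ⊓ @Flat ⊓ @QuasiCompact) (f := f)
    ⟨⟨inferInstance, inferInstance⟩, inferInstance⟩ hqc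
  exact ⟨isEmbedding_of_pullback f g he, this⟩

theorem descendsAlong_universally_isEmbedding_qc :
    MorphismProperty.DescendsAlong
      (MorphismProperty.universally (topologically (fun f => Topology.IsEmbedding f)) ⊓ @QuasiCompact :
        MorphismProperty Scheme.{u})
      (@Surjective ⊓ @Flat ⊓ @QuasiCompact : MorphismProperty Scheme.{u}) := by
  have : (topologically (fun f => Topology.IsEmbedding f) : MorphismProperty Scheme.{u}).RespectsIso :=
    inferInstanceAs (topologically Topology.IsEmbedding).RespectsIso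
  apply MorphismProperty.DescendsAlong.mk'
  intro X Y Z f g _ hf h
  obtain ⟨he, hqc⟩ := h
  have := FpqcDesc.descendsAlong_quasiCompact.{u}
  have hq : QuasiCompact g := MorphismProperty.of_pullback_fst_of_descendsAlong
    (Q := @Surjective ⊓ @Flat ⊓ @QuasiCompact) (f := f) hf hqc
  refine ⟨MorphismProperty.universally_mk' (P := topologically (fun f => Topology.IsEmbedding f)) g
    fun {T} t _ => ?_, hq⟩
  let q := pullback.fst t f
  have hsf : Surjective q := MorphismProperty.pullback_fst (P := @Surjective) _ _ hf.1.1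
  have hfl : Flat q := MorphismProperty.pullback_fst (P := @Flat) _ _ hf.1.2
  have : QuasiCompact (pullback.fst t g) := MorphismProperty.pullback_fst (P := @QuasiCompact) _ _ hq
  refine isEmbedding_of_pullback q (pullback.fst t g) ?_
  refine he (pullback.lift (pullback.fst q (pullback.fst t g) ≫ pullback.snd t f)
    (pullback.snd q (pullback.fst t g) ≫ pullback.snd t g) ?_) (pullback.snd t f) _ ?_
  · rw [Category.assoc, ← pullback.condition, Category.assoc, ← pullback.condition,
      ← Category.assoc, ← Category.assoc, pullback.condition]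
  · refine IsPullback.flip (IsPullback.of_right (h₁₂ := pullback.snd f g) ?_ (pullback.lift_fst _ _ _)
      (IsPullback.of_hasPullback f g).flip)
    rw [pullback.lift_snd]
    have := ((IsPullback.of_hasPullback q (pullback.fst t g)).flip.paste_horiz
      (IsPullback.of_hasPullback t g).flip)
    rwa [show pullback.snd t f ≫ f = q ≫ t from pullback.condition.symm]

end Groth.Agent.H12
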