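import Mathlib.AlgebraicGeometry.Morphisms.UniversallyOpen
import Mathlib.AlgebraicGeometry.Sites.Fpqc
import Mathlib.CategoryTheory.MorphismProperty.Local

set_option autoImplicit false

open AlgebraicGeometry CategoryTheory CategoryTheory.Limits

universe u

namespace Groth.Agent.H12

/-- What membership in a precoverage given by a morphism property says. -/
theorem precoverage_mem {P : MorphismProperty Scheme.{u}} {X : Scheme.{u}} {R : Presieve X}
    (hR : R ∈ Scheme.precoverage P X) :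
    (∀ ⦃U : Scheme.{u}⦄ ⦃g : U ⟶ X⦄, R g → P g) ∧
      ∀ x : X, ∃ (U : Scheme.{u}) (g : U ⟶ X), R g ∧ x ∈ Set.range g := by
  obtain ⟨ι, Y, f, rfl⟩ := Presieve.exists_eq_ofArrows R
  rw [Scheme.ofArrows_mem_precoverage_iff] at hR
  refine ⟨fun U g hg => ?_, fun x => ?_⟩
  · obtain ⟨i⟩ := hg
    exact hR.2 i
  · obtain ⟨i, hi⟩ := hR.1 x
    exact ⟨Y i, f i, ⟨i⟩, hi⟩

theorem isOpenMap_of_forall_comp {P : MorphismProperty Scheme.{u}} {X Y : Scheme.{u}} {f : X ⟶ Y}
    {R : Presieve X} (hR : R ∈ Scheme.precoverage P X)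
    (h : ∀ ⦃U : Scheme.{u}⦄ ⦃g : U ⟶ X⦄, R g → IsOpenMap (g ≫ f)) : IsOpenMap f := by
  intro s hs
  have heq : f '' s = ⋃ p : {p : Σ U : Scheme.{u}, (U ⟶ X) // R p.2},
      (p.1.2 ≫ f) '' (p.1.2 ⁻¹' s) := by
    ext y
    constructor
    · rintro ⟨x, hx, rfl⟩
      obtain ⟨U, g, hg, u, rfl⟩ := (precoverage_mem hR).2 x
      exact Set.mem_iUnion.mpr ⟨⟨⟨U, g⟩, hg⟩, u, hx, rfl⟩
    · simp only [Set.mem_iUnion]
      rintro ⟨⟨⟨U, g⟩, hg⟩, u, hu, rfl⟩
      exact ⟨g u, hu, rfl⟩
  rw [heq]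
  exact isOpen_iUnion fun p => h p.2 _ (hs.preimage p.1.2.continuous)

theorem isLocalAtSource_isOpenMap :
    MorphismProperty.IsLocalAtSource (topologically (fun f => IsOpenMap f) : MorphismProperty Scheme.{u})
      Scheme.fppfPrecoverage := by
  have : (topologically (fun f => IsOpenMap f) : MorphismProperty Scheme.{u}).RespectsIso :=
    inferInstanceAs (topologically IsOpenMap).RespectsIso
  refine MorphismProperty.IsLocalAtSource.mk_of_iff fun {X Y f R} hR => ⟨fun hf U g hg => ?_,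
    fun h => isOpenMap_of_forall_comp hR h⟩
  obtain ⟨_, _⟩ := (precoverage_mem hR).1 hg
  exact hf.comp g.isOpenMap

theorem isLocalAtSource_universallyOpen :
    MorphismProperty.IsLocalAtSource (@UniversallyOpen : MorphismProperty Scheme.{u})
      Scheme.fppfPrecoverage := by
  refine MorphismProperty.IsLocalAtSource.mk_of_iff fun {X Y f R} hR => ⟨fun hf U g hg => ?_,
    fun h => ⟨MorphismProperty.universally_mk' (P := topologically IsOpenMap) f fun {T} q _ => ?_⟩⟩
  · obtain ⟨_, _⟩ := (precoverage_mem hR).1 hg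
    infer_instance
  · intro s hs
    rw [isOpen_iff_forall_mem_open]
    rintro t ⟨z, hz, rfl⟩
    obtain ⟨U, g, hg, u, hu⟩ := (precoverage_mem hR).2 (pullback.snd q f z)
    obtain ⟨w, hw₁, hw₂⟩ := Scheme.Pullback.exists_preimage_pullback (f := pullback.snd q f) (g := g)
      z u hu.symm
    let k := pullback.fst (pullback.snd q f) g
    have : UniversallyOpen (g ≫ f) := h hg
    have hsq : IsPullback (pullback.snd (pullback.snd q f) g) (k ≫ pullback.fst q f) (g ≫ f) q :=
      ((IsPullback.of_hasPullback (pullback.snd q f) g).flip.paste_vert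
        (IsPullback.of_hasPullback q f).flip)
    have : UniversallyOpen (k ≫ pullback.fst q f) :=
      MorphismProperty.of_isPullback hsq ‹UniversallyOpen (g ≫ f)›
    refine ⟨(k ≫ pullback.fst q f) '' (k ⁻¹' s), ?_, (k ≫ pullback.fst q f).isOpenMap _
      (hs.preimage k.continuous), w, by rwa [Set.mem_preimage, hw₁], by rw [← hw₁]; rfl⟩
    rintro _ ⟨v, hv, rfl⟩
    exact ⟨k v, hv, rfl⟩

theorem isLocalAtTarget_isDominant :
    MorphismProperty.IsLocalAtTarget (@IsDominant : MorphismProperty Scheme.{u})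
      Scheme.fppfPrecoverage := by
  refine MorphismProperty.IsLocalAtTarget.mk_of_iff fun X Y f R hR => ⟨fun hf U g _ hg => ?_,
    fun h => ⟨?_⟩⟩
  · obtain ⟨_, _⟩ := (precoverage_mem hR).1 hg
    refine ⟨?_⟩
    rw [denseRange_iff_closure_range, Scheme.Pullback.range_snd,
      ← g.isOpenMap.preimage_closure_eq_closure_preimage g.continuous, f.denseRange.closure_range,
      Set.preimage_univ]
  · rw [denseRange_iff_closure_range, Set.eq_univ_iff_forall]
    intro y
    obtain ⟨U, g, hg, u, rfl⟩ := (precoverage_mem hR).2 y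
    have : IsDominant (pullback.snd f g) := h g hg
    have hu : u ∈ closure (Set.range (pullback.snd f g)) := by
      rw [(pullback.snd f g).denseRange.closure_range]; trivial
    refine closure_mono ?_ (image_closure_subset_closure_image g.continuous ⟨u, hu, rfl⟩)
    rintro _ ⟨_, ⟨p, rfl⟩, rfl⟩
    exact ⟨pullback.fst f g p, by rw [← Scheme.Hom.comp_apply, pullback.condition]; rfl⟩

theorem exists_largest_open_source (P : MorphismProperty Scheme.{u}) (K : MorphismProperty Scheme.{u})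
    [P.IsLocalAtSource (Scheme.precoverage K)] (hK : (@IsOpenImmersion : MorphismProperty Scheme.{u}) ≤ K)
    (hopen : ∀ ⦃X Y : Scheme.{u}⦄ (g : X ⟶ Y), K g → IsOpenMap g)
    [K.IsStableUnderBaseChange] [K.IsStableUnderComposition] {X Y : Scheme.{u}} (f : X ⟶ Y) :
    ∃ W : X.Opens, (P (W.ι ≫ f) ∧ ∀ W' : X.Opens, P (W'.ι ≫ f) → W' ≤ W) ∧
      ∀ (X' : Scheme.{u}) (g : X' ⟶ X), K g → ∀ (V : X'.Opens),
        (P (V.ι ≫ g ≫ f) ∧ ∀ V' : X'.Opens, P (V'.ι ≫ g ≫ f) → V' ≤ V) → V = g ⁻¹ᵁ W := by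
  -- locality helper: `P` for a map out of an open follows from a family of maps covering it
  have loc : ∀ {Z : Scheme.{u}} (h : Z ⟶ Y) {ι : Type (u + 1)} (U : ι → Scheme.{u})
      (i : ∀ a, U a ⟶ Z), (∀ z, ∃ a, z ∈ Set.range (i a)) → (∀ a, K (i a)) →
      (∀ a, P (i a ≫ h)) → P h := by
    intro Z h ι U i hs hi hP
    refine MorphismProperty.IsLocalAtSource.of_forall_comp (K := Scheme.precoverage K)
      (R := Presieve.ofArrows U i) (by rw [Scheme.ofArrows_mem_precoverage_iff]; exact ⟨hs, hi⟩) ?_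
    rintro _ _ ⟨a⟩
    exact hP a
  let S : Set X.Opens := {U | P (U.ι ≫ f)}
  let W : X.Opens := sSup S
  have hWP : P (W.ι ≫ f) := by
    refine loc (W.ι ≫ f) (ι := ULift.{u + 1} S) (fun a => (a.down.1 : Scheme.{u}))
      (fun a => X.homOfLE (le_sSup a.down.2)) (fun w => ?_) (fun a => hK _ inferInstance)
      (fun a => by rw [← Category.assoc, Scheme.homOfLE_ι]; exact a.down.2)
    obtain ⟨U, hU, hw⟩ := TopologicalSpace.Opens.mem_sSup.mp w.2
    exact ⟨⟨⟨U, hU⟩⟩, ⟨w.1, hw⟩, W.ι.isOpenEmbedding.injective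
      (by rw [← Scheme.Hom.comp_apply, Scheme.homOfLE_ι]; rfl)⟩
  refine ⟨W, ⟨hWP, fun W' h => le_sSup h⟩, fun X' g hg V ⟨hV, hVmax⟩ => le_antisymm ?_ ?_⟩
  · -- the image of `V` is open and lies in `W`
    let U : X.Opens := ⟨g '' (V : Set X'), hopen g hg _ V.2⟩
    have hle : V ≤ g ⁻¹ᵁ U := fun v hv => ⟨v, hv, rfl⟩
    suffices hU : P (U.ι ≫ f) from fun v hv => (le_sSup (a := U) (s := S) hU) ⟨v, hv, rfl⟩
    let gU : (V : Scheme.{u}) ⟶ (U : Scheme.{u}) := g.resLE U V hle
    have hgU : K gU := by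
      have h1 : K (g ∣_ U) := MorphismProperty.of_isPullback (isPullback_morphismRestrict g U).flip hg
      exact K.comp_mem _ _ (hK _ inferInstance) h1
    refine loc (U.ι ≫ f) (ι := PUnit) (fun _ => (V : Scheme.{u})) (fun _ => gU) ?_ (fun _ => hgU)
      (fun _ => by rw [Scheme.Hom.resLE_comp_ι_assoc]; exact hV)
    rintro ⟨z, v, hv, rfl⟩
    exact ⟨⟨⟩, ⟨v, hv⟩, U.ι.isOpenEmbedding.injective
      (by rw [← Scheme.Hom.comp_apply, Scheme.Hom.resLE_comp_ι]; rfl)⟩
  · refine hVmax _ ?_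
    have h2 : K (g ∣_ W) := MorphismProperty.of_isPullback (isPullback_morphismRestrict g W).flip hg
    let Z : ULift.{u + 1} Bool → Scheme.{u} := fun b =>
      cond b.down (g ⁻¹ᵁ W : Scheme.{u}) (W : Scheme.{u})
    let i : ∀ b, Z b ⟶ (W : Scheme.{u}) := fun b => match b with
      | ⟨true⟩ => g ∣_ W
      | ⟨false⟩ => 𝟙 _
    have hR : Presieve.ofArrows Z i ∈ Scheme.precoverage K (W : Scheme.{u}) := by
      rw [Scheme.ofArrows_mem_precoverage_iff]
      refine ⟨fun w => ⟨⟨false⟩, w, rfl⟩, fun b => ?_⟩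
      rcases b with ⟨_ | _⟩
      · exact hK _ inferInstance
      · exact h2
    have := MorphismProperty.IsLocalAtSource.comp (K := Scheme.precoverage K) hR (g ∣_ W)
      (Presieve.ofArrows.mk (ULift.up true)) hWP
    rwa [← Category.assoc, morphismRestrict_ι, Category.assoc] at this

end Groth.Agent.H12
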