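import Groth.Agent.Lib.H12.Covers

set_option autoImplicit false

open AlgebraicGeometry CategoryTheory CategoryTheory.Limits

universe u

namespace Groth.Agent.H12

theorem target_loc (P K : MorphismProperty Scheme.{u})
    [P.IsLocalAtTarget (Scheme.precoverage K)] {Z T : Scheme.{u}} (h : Z ⟶ T)
    {ι : Type (u + 1)} (U : ι → Scheme.{u}) (i : ∀ a, U a ⟶ T)
    (hs : ∀ z, ∃ a, z ∈ Set.range (i a)) (hi : ∀ a, K (i a))
    (hP : ∀ a, P (pullback.snd h (i a))) : P h := by
  refine MorphismProperty.IsLocalAtTarget.of_forall_pullbackSnd (K := Scheme.precoverage K)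
    (R := Presieve.ofArrows U i) (by rw [Scheme.ofArrows_mem_precoverage_iff]; exact ⟨hs, hi⟩) ?_
  rintro _ _ _ ⟨a⟩
  exact hP a


/-- Base change along one map in `K` preserves a `K`-local property. -/
theorem pullback_snd_of_K (P K : MorphismProperty Scheme.{u})
    [P.IsLocalAtTarget (Scheme.precoverage K)]
    (hK : (@IsOpenImmersion : MorphismProperty Scheme.{u}) ≤ K) {Z T T' : Scheme.{u}} (h : Z ⟶ T)
    (g : T' ⟶ T) (hg : K g) (hP : P h) : P (pullback.snd h g) := by
  let U : ULift.{u + 1} Bool → Scheme.{u} := fun b => cond b.down T' T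
  let i : ∀ b, U b ⟶ T := fun b => match b with
    | ⟨true⟩ => g
    | ⟨false⟩ => 𝟙 _
  have hR : Presieve.ofArrows U i ∈ Scheme.precoverage K T := by
    rw [Scheme.ofArrows_mem_precoverage_iff]
    refine ⟨fun w => ⟨⟨false⟩, w, rfl⟩, fun b => ?_⟩
    rcases b with ⟨_ | _⟩
    · exact hK _ inferInstance
    · exact hg
  exact MorphismProperty.IsLocalAtTarget.pullbackSnd (K := Scheme.precoverage K) hR
    (Presieve.ofArrows.mk (ULift.up true)) hP

theorem exists_largest_open_target (P : MorphismProperty Scheme.{u}) (K : MorphismProperty Scheme.{u})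
    [P.IsLocalAtTarget (Scheme.precoverage K)] (hK : (@IsOpenImmersion : MorphismProperty Scheme.{u}) ≤ K)
    (hopen : ∀ ⦃X Y : Scheme.{u}⦄ (g : X ⟶ Y), K g → IsOpenMap g)
    [K.IsStableUnderBaseChange] [K.IsStableUnderComposition] {X Y : Scheme.{u}} (f : X ⟶ Y) :
    ∃ W : Y.Opens, P (f ∣_ W) ∧ (∀ W₀ : Y.Opens, P (f ∣_ W₀) → W₀ ≤ W) ∧
      (∀ (Y' : Scheme.{u}) (g : Y' ⟶ Y), K g →
        P (pullback.snd f g) → Set.range g.base ⊆ (W : Set Y)) ∧
      (∀ (Y' : Scheme.{u}) (g : Y' ⟶ Y), K g →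
        ∀ W' : Y'.Opens, P (pullback.snd f g ∣_ W') →
          (∀ W₀ : Y'.Opens, P (pullback.snd f g ∣_ W₀) → W₀ ≤ W') → W' = g ⁻¹ᵁ W) := by
  -- `P` over an open, tested on any map into it
  have down : ∀ (U : Y.Opens) (T : Scheme.{u}) (q : T ⟶ (U : Scheme.{u})),
      P (pullback.snd f (q ≫ U.ι)) ↔ P (pullback.snd (f ∣_ U) q) := by
    intro U T q
    have h1 : IsPullback (pullback.fst (f ∣_ U) q ≫ (f ⁻¹ᵁ U).ι) (pullback.snd (f ∣_ U) q) f
        (q ≫ U.ι) :=
      ((IsPullback.of_hasPullback (f ∣_ U) q).paste_horiz (isPullback_morphismRestrict f U).flip)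
    rw [← h1.isoPullback_hom_snd]
    exact (MorphismProperty.cancel_left_of_respectsIso P h1.isoPullback.hom _).symm
  let S : Set Y.Opens := {U | P (f ∣_ U)}
  let W : Y.Opens := sSup S
  have hres : ∀ (U : Y.Opens), P (f ∣_ U) ↔ P (pullback.snd f U.ι) := fun U => by
    rw [← (isPullback_morphismRestrict f U).flip.isoPullback_hom_snd]
    exact MorphismProperty.cancel_left_of_respectsIso P _ _
  have hWP : P (f ∣_ W) := by
    refine target_loc P K (f ∣_ W) (ι := ULift.{u + 1} S) (fun a => (a.down.1 : Scheme.{u}))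
      (fun a => Y.homOfLE (le_sSup a.down.2)) (fun w => ?_) (fun a => hK _ inferInstance)
      (fun a => (down W _ _).mp ?_)
    · obtain ⟨U, hU, hw⟩ := TopologicalSpace.Opens.mem_sSup.mp w.2
      exact ⟨⟨⟨U, hU⟩⟩, ⟨w.1, hw⟩, W.ι.isOpenEmbedding.injective
        (by rw [← Scheme.Hom.comp_apply, Scheme.homOfLE_ι]; rfl)⟩
    · rw [Scheme.homOfLE_ι]
      exact (hres _).mp a.down.2
  have himg : ∀ (Y' : Scheme.{u}) (g : Y' ⟶ Y), K g → P (pullback.snd f g) →
      Set.range g.base ⊆ (W : Set Y) := by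
    intro Y' g hg hP
    let U : Y.Opens := ⟨Set.range g, (hopen g hg).isOpen_range⟩
    suffices hU : P (f ∣_ U) from fun y hy => (le_sSup (a := U) (s := S) hU) hy
    let q : Y' ⟶ (U : Scheme.{u}) := IsOpenImmersion.lift U.ι g (by rw [Scheme.Opens.range_ι]; rfl)
    have hq : q ≫ U.ι = g := IsOpenImmersion.lift_fac _ _ _
    have hqK : K q := by
      have h1 : K (g ∣_ U) := MorphismProperty.of_isPullback (isPullback_morphismRestrict g U).flip hg
      let l : Y' ⟶ (g ⁻¹ᵁ U : Scheme.{u}) := IsOpenImmersion.lift (g ⁻¹ᵁ U).ι (𝟙 Y')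
        (by rw [Scheme.Opens.range_ι]; rintro x -; exact ⟨x, rfl⟩)
      have hl : l ≫ (g ⁻¹ᵁ U).ι = 𝟙 Y' := IsOpenImmersion.lift_fac _ _ _
      have : IsOpenImmersion (l ≫ (g ⁻¹ᵁ U).ι) := hl ▸ inferInstance
      have : IsOpenImmersion l := .of_comp l (g ⁻¹ᵁ U).ι
      have : q = l ≫ g ∣_ U := by
        rw [← cancel_mono U.ι, hq, Category.assoc, morphismRestrict_ι, ← Category.assoc, hl,
          Category.id_comp]
      rw [this]
      exact K.comp_mem _ _ (hK _ inferInstance) h1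
    refine target_loc P K (f ∣_ U) (ι := PUnit) (fun _ => Y') (fun _ => q) ?_ (fun _ => hqK)
      (fun _ => (down U _ q).mp (hq.symm ▸ hP))
    rintro ⟨_, y, rfl⟩
    exact ⟨⟨⟩, y, U.ι.isOpenEmbedding.injective (by rw [← Scheme.Hom.comp_apply, hq]; rfl)⟩
  refine ⟨W, hWP, fun U h => le_sSup h, himg, fun Y' g hg W' hW' hmax => le_antisymm ?_ ?_⟩
  · have h1 : P (pullback.snd f (W'.ι ≫ g)) := by
      have hsq : IsPullback ((pullback.snd f g ⁻¹ᵁ W').ι ≫ pullback.fst f g) (pullback.snd f g ∣_ W')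
          f (W'.ι ≫ g) :=
        (isPullback_morphismRestrict (pullback.snd f g) W').flip.paste_horiz
          (IsPullback.of_hasPullback f g)
      rw [← hsq.isoPullback_hom_snd] at hW'
      exact (MorphismProperty.cancel_left_of_respectsIso P _ _).mp hW'
    intro y hy
    exact himg _ (W'.ι ≫ g) (K.comp_mem _ _ (hK _ inferInstance) hg) h1 ⟨⟨y, hy⟩, rfl⟩
  · refine hmax _ ?_
    let gW := g ∣_ W
    have h2 : K gW := MorphismProperty.of_isPullback (isPullback_morphismRestrict g W).flip hg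
    have h3 : P (pullback.snd f (gW ≫ W.ι)) := (down W _ gW).mpr (pullback_snd_of_K P K hK _ _ h2 hWP)
    have hsq : IsPullback ((pullback.snd f g ⁻¹ᵁ (g ⁻¹ᵁ W)).ι ≫ pullback.fst f g)
        (pullback.snd f g ∣_ g ⁻¹ᵁ W) f (gW ≫ W.ι) := by
      rw [morphismRestrict_ι]
      exact (isPullback_morphismRestrict (pullback.snd f g) _).flip.paste_horiz
        (IsPullback.of_hasPullback f g)
    rw [← hsq.isoPullback_hom_snd]
    exact (MorphismProperty.cancel_left_of_respectsIso P _ _).mpr h3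

end Groth.Agent.H12
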